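import Groth.Agent.Lib.SecExt20.Data
import Groth.Agent.Lib.LimModMap20.Hom
import Groth.Agent.Lib.LocFree8.Basic
import Groth.Agent.Lib.OX.LocFreeTensor
import Groth.Agent.S1110
import Groth.Agent.S4788
import Groth.Agent.S4791

/-! # The resolution property descends to a stage of an affine limit -/

set_option autoImplicit false
set_option backward.isDefEq.respectTransparency false
set_option linter.style.haveILetI false
set_option maxHeartbeats 1000000
universe u

open CategoryTheory CategoryTheory.Limits AlgebraicGeometry TopologicalSpace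

noncomputable section

namespace GrothLib.ResPropLim20

variable {I : Type u} [SmallCategory I] [IsCofiltered I] (D : I ⥤ Scheme.{u}) (c : Cone D) (hc : IsLimit c)
    [∀ (i j : I) (a : i ⟶ j), IsAffineHom (D.map a)] [∀ i, CompactSpace ↥(D.obj i)]
    [∀ i, QuasiSeparatedSpace ↥(D.obj i)]

omit [IsCofiltered I] [∀ (i j : I) (a : i ⟶ j), IsAffineHom (D.map a)] [∀ i, CompactSpace ↥(D.obj i)]
  [∀ i, QuasiSeparatedSpace ↥(D.obj i)] in
theorem isFinLocFree_of_iso {X : Scheme.{u}} {M N : X.Modules} (e' : M ≅ N) (h : FlatMod.IsFinLocFree M) :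
    FlatMod.IsFinLocFree N := fun x => by
  obtain ⟨U, n, hx, ⟨e⟩⟩ := h x
  exact ⟨U, n, hx, ⟨(Scheme.Modules.restrictFunctor U.ι).mapIso e'.symm ≪≫ e⟩⟩

include hc in
theorem exists_stage_data (hX : PerfAux.HasResolutionProperty c.pt) [CompactSpace c.pt] [QuasiSeparatedSpace c.pt]
    (i₀ : I) {U : (D.obj i₀).Opens} (hU : IsAffineOpen U) :
    ∃ (k : I) (φ : k ⟶ i₀) (E : (D.obj k).Modules) (q : E ⟶ Coh.structureModule (D.obj k)),
      FlatMod.IsFinLocFree E ∧ ∀ x, SecExt20.stI q x = ⊤ ↔ x ∈ D.map φ ⁻¹ᵁ U := by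
  haveI : ∀ {i j : I} (f : i ⟶ j), IsAffineHom (D.map f) := fun f => inferInstance
  haveI hπ : ∀ i, IsAffineHom (c.π.app i) := fun i => isAffineHom_π_app D c hc i
  obtain ⟨E, q, hE, hq⟩ := SecExt20.exists_boundary hX (hU.preimage (c.π.app i₀))
  haveI := Euler.isQuasicoherent_of_isFinLocFree hE
  obtain ⟨i, f, Fi, hQ, hFP, ⟨e⟩⟩ := Groth.Agent.S4788.result D c hc i₀ E (LocFree8.isFP_of_isFinLocFree _ hE)
  obtain ⟨j', φ, hj'⟩ := (Groth.Agent.S4791.result D c hc i Fi hFP).1 (isFinLocFree_of_iso e.symm hE)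
  haveI := Euler.isQuasicoherent_of_isFinLocFree hj'
  haveI : (Coh.structureModule (D.obj j')).IsQuasicoherent := Euler.isQuasicoherent_of_isFinLocFree
    (Euler.isFinLocFree_of_isInvertible Euler.isInvertible_structure)
  let e' := ModDesc.theta D c i Fi φ ≪≫ e
  obtain ⟨k, ψ, hk, hk'⟩ := LimModMap20.exists_hom_stage hc j' (Coh.structureModule (D.obj j'))
    (LocFree8.isFP_of_isFinLocFree _ hj') (e'.hom ≫ q ≫ (OX.pullUnitIso (c.π.app j')).inv)
  let E'' := (Scheme.Modules.pullback (D.map ψ)).obj ((Scheme.Modules.pullback (D.map φ)).obj Fi)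
  have hE'' : FlatMod.IsFinLocFree E'' := OX.isFinLocFree_pullback _ hj'
  let q'' : E'' ⟶ Coh.structureModule (D.obj k) := hk ≫ (OX.pullUnitIso (D.map ψ)).hom
  let φk : k ⟶ i₀ := ψ ≫ φ ≫ f
  let t₁ := ModDesc.theta D c j' ((Scheme.Modules.pullback (D.map φ)).obj Fi) ψ
  let t₂ := ModDesc.theta D c j' (Coh.structureModule (D.obj j')) ψ
  let b := (Scheme.Modules.pullback (c.π.app k)).mapIso (OX.pullUnitIso (D.map ψ)) ≪≫ OX.pullUnitIso (c.π.app k)
  have heq : (Scheme.Modules.pullback (c.π.app k)).map q'' ≫ (OX.pullUnitIso (c.π.app k)).hom =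
      (t₁ ≪≫ e').hom ≫ q ≫ ((OX.pullUnitIso (c.π.app j')).symm ≪≫ t₂.symm ≪≫ b).hom := by
    have h1 : (Scheme.Modules.pullback (c.π.app k)).map hk =
        t₁.hom ≫ (e'.hom ≫ q ≫ (OX.pullUnitIso (c.π.app j')).inv) ≫ t₂.inv := by
      rw [← hk']
      simp [t₁, t₂]
    simp only [q'', b, Functor.map_comp, Iso.trans_hom, Iso.symm_hom, Functor.mapIso_hom, h1, Category.assoc]
  have hiff : ∀ x, SecExt20.stI q'' (c.π.app k x) = ⊤ ↔ x ∈ c.π.app i₀ ⁻¹ᵁ U := fun x => by
    rw [← SecExt20.stI_pullback_iff (c.π.app k) hE'' q'', SecExt20.surjective_stalk_iff, heq,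
      SecExt20.surjective_stalk_iso_comp]
    exact (SecExt20.surjective_stalk_iff q x).symm.trans (hq x)
  have hcomp : c.π.app k ⁻¹ᵁ SecExt20.locus q'' = c.π.app k ⁻¹ᵁ (D.map φk ⁻¹ᵁ U) := by
    ext x
    rw [← Scheme.Hom.comp_preimage, c.w]
    exact (SecExt20.mem_locus q'' _).trans (hiff x)
  obtain ⟨l, ρ, hl⟩ := exists_map_preimage_eq_map_preimage D c hc (SecExt20.isCompact_locus hE'' q'')
    (hU.preimage (D.map φk)).isCompact hcomp
  refine ⟨l, ρ ≫ φk, (Scheme.Modules.pullback (D.map ρ)).obj E'',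
    (Scheme.Modules.pullback (D.map ρ)).map q'' ≫ (OX.pullUnitIso (D.map ρ)).hom,
    OX.isFinLocFree_pullback _ hE'', fun x => ?_⟩
  rw [SecExt20.stI_pullback_iff (D.map ρ) hE'' q'', ← SecExt20.mem_locus, D.map_comp, Scheme.Hom.comp_preimage, ← hl]
  rfl

include hc in
theorem exists_index (hX : PerfAux.HasResolutionProperty c.pt) : ∃ i : I, PerfAux.HasResolutionProperty (D.obj i) := by
  haveI : ∀ {i j : I} (f : i ⟶ j), IsAffineHom (D.map f) := fun f => inferInstance
  haveI hπ : ∀ i, IsAffineHom (c.π.app i) := fun i => isAffineHom_π_app D c hc i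
  obtain ⟨i₀⟩ := IsCofiltered.nonempty (C := I)
  haveI : CompactSpace c.pt := QuasiCompact.compactSpace_of_compactSpace (c.π.app i₀)
  haveI : QuasiSeparatedSpace c.pt := quasiSeparatedSpace_of_quasiSeparated (c.π.app i₀)
  let 𝒰 := (D.obj i₀).affineCover.finiteSubcover
  haveI : Fintype 𝒰.I₀ := Fintype.ofFinite _
  let n := Fintype.card 𝒰.I₀
  let ε := Fintype.equivFin 𝒰.I₀
  let U : Fin n → (D.obj i₀).Opens := fun a => (𝒰.f (ε.symm a)).opensRange
  have hU : ∀ a, IsAffineOpen (U a) := fun a => isAffineOpen_opensRange _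
  choose k φ E q hE hq using fun a => exists_stage_data D c hc hX i₀ (hU a)
  classical
  obtain ⟨S, hS⟩ := IsCofiltered.inf_objs_exists (Finset.univ.image fun a => Over.mk (φ a))
  have g : ∀ a, S ⟶ Over.mk (φ a) := fun a =>
    (hS (Finset.mem_image_of_mem _ (Finset.mem_univ a))).some
  refine ⟨S.left, SecExt20.resolutionProperty_of_data (fun a => D.map S.hom ⁻¹ᵁ U a)
    (fun a => (hU a).preimage _) (fun x => ?_) fun a => ?_⟩
  · obtain ⟨y, hy⟩ := Opens.mem_iSup.1 (show D.map S.hom x ∈ (⨆ j, (𝒰.f j).opensRange : (D.obj i₀).Opens) by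
      rw [𝒰.iSup_opensRange]; trivial)
    refine ⟨ε y, ?_⟩
    show D.map S.hom x ∈ (𝒰.f (ε.symm (ε y))).opensRange
    rw [ε.symm_apply_apply]
    exact hy
  · refine ⟨(Scheme.Modules.pullback (D.map (g a).left)).obj (E a),
      (Scheme.Modules.pullback (D.map (g a).left)).map (q a) ≫ (OX.pullUnitIso _).hom,
      OX.isFinLocFree_pullback _ (hE a), fun x => ?_⟩
    rw [SecExt20.stI_pullback_iff (D.map (g a).left) (hE a) (q a), hq]
    have h : D.map (g a).left ≫ D.map (φ a) = D.map S.hom := by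
      rw [← D.map_comp]; exact congrArg D.map (Over.w (g a))
    rw [← h, Scheme.Hom.comp_preimage]
    rfl

end GrothLib.ResPropLim20
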